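import Mathlib

/-!
# Local rings at a point alone in its fibre under an integral morphism
-/

set_option autoImplicit false

universe u

open CategoryTheory AlgebraicGeometry TopologicalSpace

namespace Groth.Agent.SingleFibreStalk

theorem stalk_eq_mul {X Y : Scheme.{u}} (f : X ⟶ Y) [IsIntegralHom f] (x : X)
    (hx : ∀ x' : X, f x' = f x → x' = x) {V : Y.Opens} (hV : IsAffineOpen V) (hxV : f x ∈ V)
    (z : X.presheaf.stalk x) : ∃ (b : Γ(X, f ⁻¹ᵁ V)) (a : Y.presheaf.stalk (f x)),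
      z = f.stalkMap x a * X.presheaf.germ (f ⁻¹ᵁ V) x hxV b := by
  have hU : IsAffineOpen (f ⁻¹ᵁ V) := hV.preimage f
  letI := TopCat.Presheaf.algebra_section_stalk X.presheaf (⟨x, hxV⟩ : (f ⁻¹ᵁ V : X.Opens))
  haveI := hU.isLocalization_stalk ⟨x, hxV⟩
  let q := hU.primeIdealOf ⟨x, hxV⟩
  obtain ⟨b, ⟨s, hs⟩, rfl⟩ := IsLocalization.exists_mk'_eq q.asIdeal.primeCompl z
  algebraize [(f.app V).hom]
  haveI : Algebra.IsIntegral Γ(Y, V) Γ(X, f ⁻¹ᵁ V) := ⟨f.isIntegral_app V hV⟩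
  have hpt : ∀ Q : PrimeSpectrum Γ(X, f ⁻¹ᵁ V),
      hV.fromSpec (Spec.map (f.appLE V (f ⁻¹ᵁ V) le_rfl) Q) = f (hU.fromSpec Q) := fun Q =>
    congrArg (fun m : Spec Γ(X, f ⁻¹ᵁ V) ⟶ Y => m Q) (IsAffineOpen.SpecMap_appLE_fromSpec f hV hU le_rfl)
  have hqx : hU.fromSpec q = x := hU.fromSpec_primeIdealOf ⟨x, hxV⟩
  have hmap : ∀ Q : PrimeSpectrum Γ(X, f ⁻¹ᵁ V),
      (Spec.map (f.appLE V (f ⁻¹ᵁ V) le_rfl) Q).asIdeal = Q.asIdeal.under Γ(Y, V) := fun Q => by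
    show Ideal.comap (f.appLE V (f ⁻¹ᵁ V) le_rfl).hom Q.asIdeal = _
    rw [Ideal.under_def, ← Scheme.Hom.app_eq_appLE]
    rfl
  have hq : (q.asIdeal.under Γ(Y, V)).primesOver Γ(X, f ⁻¹ᵁ V) = {q.asIdeal} := by
    ext Q
    refine ⟨fun hQ => ?_, by rintro rfl; exact ⟨q.2, ⟨rfl⟩⟩⟩
    have e : Spec.map (f.appLE V (f ⁻¹ᵁ V) le_rfl) ⟨Q, hQ.1⟩ = Spec.map (f.appLE V (f ⁻¹ᵁ V) le_rfl) q :=
      PrimeSpectrum.ext ((hmap _).trans (hQ.2.over.symm.trans (hmap q).symm))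
    have h1 : f (hU.fromSpec ⟨Q, hQ.1⟩) = f (hU.fromSpec q) := by rw [← hpt, ← hpt, e]
    rw [hqx] at h1
    have h2 := hx _ h1
    rw [← hqx] at h2
    exact congrArg PrimeSpectrum.asIdeal (hU.fromSpec.isOpenEmbedding.injective h2)
  obtain ⟨r, hr, c, hc⟩ := Ideal.exists_notMem_dvd_algebraMap_of_primesOver_eq_singleton hq s hs
  have hru : IsUnit (Y.presheaf.germ V (f x) hxV r) := by
    rw [← Scheme.mem_basicOpen]
    have h1 : Spec.map (f.appLE V (f ⁻¹ᵁ V) le_rfl) q ∈ PrimeSpectrum.basicOpen r := by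
      show r ∉ (Spec.map (f.appLE V (f ⁻¹ᵁ V) le_rfl) q).asIdeal
      rw [hmap]; exact hr
    rw [← hV.fromSpec_preimage_basicOpen] at h1
    have h2 : hV.fromSpec (Spec.map (f.appLE V (f ⁻¹ᵁ V) le_rfl) q) ∈ Y.basicOpen r := h1
    rwa [hpt, hqx] at h2
  refine ⟨b * c, ↑hru.unit⁻¹, ?_⟩
  rw [IsLocalization.mk'_eq_iff_eq_mul]
  have e1 : f.stalkMap x (Y.presheaf.germ V (f x) hxV r) =
      X.presheaf.germ (f ⁻¹ᵁ V) x hxV s * X.presheaf.germ (f ⁻¹ᵁ V) x hxV c := by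
    rw [Scheme.Hom.germ_stalkMap_apply, ← map_mul, ← hc]
    rfl
  have e2 : f.stalkMap x (↑hru.unit⁻¹) * f.stalkMap x (Y.presheaf.germ V (f x) hxV r) = 1 := by
    rw [← map_mul, IsUnit.val_inv_mul, map_one]
  show X.presheaf.germ (f ⁻¹ᵁ V) x hxV b =
    f.stalkMap x (↑hru.unit⁻¹) * X.presheaf.germ (f ⁻¹ᵁ V) x hxV (b * c) * X.presheaf.germ (f ⁻¹ᵁ V) x hxV s
  calc X.presheaf.germ (f ⁻¹ᵁ V) x hxV b
      = (f.stalkMap x (↑hru.unit⁻¹) * f.stalkMap x (Y.presheaf.germ V (f x) hxV r)) *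
          X.presheaf.germ (f ⁻¹ᵁ V) x hxV b := by rw [e2, one_mul]
    _ = _ := by rw [e1, map_mul]; ring

theorem isIntegral_stalkMap {X Y : Scheme.{u}} (f : X ⟶ Y) [IsIntegralHom f] (x : X)
    (hx : ∀ x' : X, f x' = f x → x' = x) : (f.stalkMap x).hom.IsIntegral := by
  obtain ⟨_, ⟨(V : Y.Opens), hV, rfl⟩, hxV, -⟩ :=
    Y.isBasis_affineOpens.exists_subset_of_mem_open (Set.mem_univ (f x)) isOpen_univ
  intro z
  obtain ⟨b, a, rfl⟩ := stalk_eq_mul f x hx hV hxV z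
  refine RingHom.IsIntegralElem.mul _ ((f.stalkMap x).hom.isIntegralElem_map) ?_
  obtain ⟨P, hP, hPb⟩ := f.isIntegral_app V hV b
  refine ⟨P.map (Y.presheaf.germ V (f x) hxV).hom, hP.map _, ?_⟩
  have he : (f.stalkMap x).hom.comp (Y.presheaf.germ V (f x) hxV).hom =
      (X.presheaf.germ (f ⁻¹ᵁ V) x hxV).hom.comp (f.app V).hom := by
    ext r
    exact Scheme.Hom.germ_stalkMap_apply _ _ _ _ _
  rw [Polynomial.eval₂_map, he, ← Polynomial.hom_eval₂, hPb, map_zero]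

theorem finite_stalkMap {X Y : Scheme.{u}} (f : X ⟶ Y) [IsFinite f] (x : X)
    (hx : ∀ x' : X, f x' = f x → x' = x) : (f.stalkMap x).hom.Finite := by
  classical
  obtain ⟨_, ⟨(V : Y.Opens), hV, rfl⟩, hxV, -⟩ :=
    Y.isBasis_affineOpens.exists_subset_of_mem_open (Set.mem_univ (f x)) isOpen_univ
  have hfin := f.finite_app V hV
  algebraize [(f.app V).hom, (f.stalkMap x).hom]
  obtain ⟨s, hs⟩ := Module.Finite.fg_top (R := Γ(Y, V)) (M := Γ(X, f ⁻¹ᵁ V))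
  refine ⟨⟨s.image (X.presheaf.germ (f ⁻¹ᵁ V) x hxV).hom, ?_⟩⟩
  rw [eq_top_iff]
  rintro z -
  obtain ⟨b, a, rfl⟩ := stalk_eq_mul f x hx hV hxV z
  refine Submodule.smul_mem _ a ?_
  have hb : b ∈ Submodule.span Γ(Y, V) (s : Set Γ(X, f ⁻¹ᵁ V)) := hs ▸ trivial
  induction hb using Submodule.span_induction with
  | mem y hy => exact Submodule.subset_span (Finset.mem_coe.mpr (Finset.mem_image_of_mem _ hy))
  | zero => rw [map_zero]; exact Submodule.zero_mem _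
  | add y y' _ _ hy hy' => rw [map_add]; exact Submodule.add_mem _ hy hy'
  | smul r y _ hy =>
    have : X.presheaf.germ (f ⁻¹ᵁ V) x hxV (r • y) =
        f.stalkMap x (Y.presheaf.germ V (f x) hxV r) * X.presheaf.germ (f ⁻¹ᵁ V) x hxV y := by
      rw [Scheme.Hom.germ_stalkMap_apply, ← map_mul]; rfl
    rw [this]
    exact Submodule.smul_mem _ _ hy

end Groth.Agent.SingleFibreStalk
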